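import Mathlib
import Cfsg.Agent.H481.OddAut.Root

/-!
# Semilinear maps normalising a group of prime order (helper481)

`exponent` : if `M G = G ^ c M` with `M` semilinear, `G` of prime order `r` and `2 n` the order of `p` modulo `r`, the
dimension at most `2 n + 1`, then `c ^ (2 n) = 1` modulo `r`.
-/

set_option autoImplicit false
set_option linter.unusedSectionVars false
set_option linter.unusedVariables false

namespace Cfsg.Agent.H481.OddAut

open Polynomial Module

section Semi

variable {F V : Type*} [Field F] [AddCommGroup V] [Module F V]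

theorem semi_aeval' {σ : F ≃+* F} {M : V → V} (hadd : ∀ u v, M (u + v) = M u + M v)
    (hsmul : ∀ (a : F) (v : V), M (a • v) = σ a • M v) {G H : Module.End F V} (hG : ∀ v, M (G v) = H (M v))
    (P : F[X]) (v : V) : M (aeval G P v) = aeval H (P.map (σ : F →+* F)) (M v) := by
  induction P using Polynomial.induction_on' with
  | add P R hP hR =>
    rw [map_add, LinearMap.add_apply, hadd, hP, hR, Polynomial.map_add, map_add, LinearMap.add_apply]
  | monomial i a =>
    have hpow : ∀ (i : ℕ) (v : V), M ((G ^ i) v) = (H ^ i) (M v) := by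
      intro i
      induction i with
      | zero => intro v; rfl
      | succ i ih =>
        intro v
        rw [pow_succ, Module.End.mul_apply, ih, hG, pow_succ, Module.End.mul_apply]
    rw [aeval_monomial, Polynomial.map_monomial, aeval_monomial, Module.End.mul_apply, Module.End.mul_apply,
      Module.algebraMap_end_apply, Module.algebraMap_end_apply, hsmul, hpow]
    rfl

theorem aeval_minpoly_map {σ : F ≃+* F} {M : V → V} (h0 : M 0 = 0)
    (hadd : ∀ u v, M (u + v) = M u + M v) (hsmul : ∀ (a : F) (v : V), M (a • v) = σ a • M v)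
    (hs : Function.Surjective M) {G H : Module.End F V} (hG : ∀ v, M (G v) = H (M v)) :
    aeval H ((minpoly F G).map (σ : F →+* F)) = 0 := by
  apply LinearMap.ext
  intro w
  obtain ⟨v, rfl⟩ := hs w
  rw [← semi_aeval' hadd hsmul hG, minpoly.aeval, LinearMap.zero_apply, h0, LinearMap.zero_apply]

end Semi

section Main

variable {F V : Type*} [Field F] [Fintype F] [AddCommGroup V] [Module F V] [FiniteDimensional F V]
  {p a : ℕ} [hp : Fact p.Prime]

theorem root_map (hF : Fintype.card F = p ^ a) {P : F[X]} {σ : F ≃+* F} {k : ℕ}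
    (hk : ∀ x, σ x = x ^ p ^ k) {K : Type*} [Field K] [Algebra F K] {μ : K} (hμ : aeval μ P = 0) :
    aeval (μ ^ p ^ k) (P.map (σ : F →+* F)) = 0 := by
  have hchar : CharP F p := charP_of_card hF
  have hcharK : CharP K p := charP_of_injective_algebraMap (algebraMap F K).injective p
  have h1 : (iterateFrobenius K p k).comp (algebraMap F K) = (algebraMap F K).comp (σ : F →+* F) := by
    ext x
    rw [RingHom.comp_apply, RingHom.comp_apply, iterateFrobenius_def]
    show _ = algebraMap F K (σ x)
    rw [hk, map_pow]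
  have h2 := congrArg (iterateFrobenius K p k) hμ
  rw [map_zero, aeval_def, Polynomial.hom_eval₂, h1, iterateFrobenius_def, ← Polynomial.eval₂_map] at h2
  exact h2

/-- **The exponent.** -/
theorem exponent (hF : Fintype.card F = p ^ a) {n r : ℕ} (hV : finrank F V ≤ 2 * n + 1) (hr : r.Prime)
    (hn0 : 0 < n) (hn : orderOf (p : ZMod r) = 2 * n) (hcop : Nat.Coprime (2 * n) a)
    {G : Module.End F V} (hG : G ^ r = 1) (hG1 : G ≠ 1) {v : V} (hv : v ≠ 0) (hGv : G v = v)
    {c : ℕ} (hc : ¬ r ∣ c) {σ : F ≃+* F}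
    (hσ : aeval (G ^ c) ((minpoly F G).map (σ : F →+* F)) = 0) : c ^ (2 * n) ≡ 1 [MOD r] := by
  classical
  have hchar : CharP F p := charP_of_card hF
  have hrf : Fact r.Prime := ⟨hr⟩
  have hp0 : (p : ZMod r) ≠ 0 := by
    intro h0
    rw [h0] at hn
    have h3 := pow_orderOf_eq_one (0 : ZMod r)
    rw [hn, zero_pow (by omega)] at h3
    exact zero_ne_one h3
  have hrF : (r : F) ≠ 0 := by
    rw [Ne, CharP.cast_eq_zero_iff F p]
    intro h1
    have h2 : p = r := (Nat.prime_dvd_prime_iff_eq hp.out hr).1 h1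
    exact hp0 (by rw [h2]; exact CharP.cast_eq_zero _ _)
  obtain ⟨k, hk, -⟩ := exists_pow hF σ
  obtain ⟨μ, hμ, hμr⟩ := exists_root (K := AlgebraicClosure F) hr hrF hG hG1
  have hint : IsIntegral F G := Algebra.IsIntegral.isIntegral G
  obtain ⟨mσ, hmσ⟩ : ∃ mσ : F[X], mσ = (minpoly F G).map (σ : F →+* F) := ⟨_, rfl⟩
  have hmonic : mσ.Monic := by rw [hmσ]; exact (minpoly.monic hint).map _
  obtain ⟨R, hR⟩ : ∃ R : Finset (AlgebraicClosure F),
      R = (mσ.map (algebraMap F (AlgebraicClosure F))).roots.toFinset := ⟨_, rfl⟩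
  have hmap0 : mσ.map (algebraMap F (AlgebraicClosure F)) ≠ 0 := (hmonic.map _).ne_zero
  have hmem : ∀ x : AlgebraicClosure F, x ∈ R ↔ aeval x mσ = 0 := by
    intro x
    rw [hR, Multiset.mem_toFinset, Polynomial.mem_roots hmap0, Polynomial.IsRoot.def, Polynomial.eval_map]
    rfl
  have hcardR : R.card ≤ 2 * n + 1 := by
    refine le_trans ?_ hV
    calc R.card ≤ _ := by rw [hR]; exact Multiset.toFinset_card_le _
      _ ≤ _ := Polynomial.card_roots' _
      _ = mσ.natDegree := Polynomial.natDegree_map _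
      _ = (minpoly F G).natDegree := by rw [hmσ, Polynomial.natDegree_map]
      _ ≤ (LinearMap.charpoly G).natDegree := Polynomial.natDegree_le_of_dvd (LinearMap.minpoly_dvd_charpoly G)
          (LinearMap.charpoly_monic G).ne_zero
      _ = finrank F V := LinearMap.charpoly_natDegree G
  have h1m : aeval (1 : AlgebraicClosure F) (minpoly F G) = 0 := by
    have h1 : Module.End.HasEigenvalue G 1 := by
      apply Module.End.hasEigenvalue_of_hasEigenvector (x := v)
      exact ⟨Module.End.mem_eigenspace_iff.2 (by rw [hGv, one_smul]), hv⟩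
    have h2 : (minpoly F G).IsRoot 1 := Module.End.isRoot_of_hasEigenvalue h1
    have h3 : aeval (algebraMap F (AlgebraicClosure F) 1) (minpoly F G) =
      algebraMap F (AlgebraicClosure F) ((minpoly F G).eval 1) := Polynomial.aeval_algebraMap_apply_eq_algebraMap_eval _ _
    rw [map_one] at h3
    rw [h3, h2.eq_zero, map_zero]
  have h1R : (1 : AlgebraicClosure F) ∈ R := by
    rw [hmem, hmσ]
    have := root_map (K := AlgebraicClosure F) hF hk h1m
    rwa [one_pow] at this
  have hq : ∀ x : AlgebraicClosure F, aeval x (minpoly F G) = 0 → aeval (x ^ p ^ a) (minpoly F G) = 0 := by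
    intro x hx
    refine root_pow hF (σ := RingEquiv.refl F) ?_ ?_ hx
    · exact Polynomial.map_id
    · intro y
      rw [← hF, FiniteField.pow_card]; rfl
  have hall : ∀ j : ℕ, aeval (μ ^ p ^ (a * j)) (minpoly F G) = 0 := by
    intro j
    induction j with
    | zero => rw [mul_zero, pow_zero, pow_one]; exact hμ
    | succ j ih =>
      rw [show a * (j + 1) = a * j + a by ring, pow_add p, pow_mul μ]
      exact hq _ ih
  have hallR : ∀ j : ℕ, μ ^ p ^ (a * j + k) ∈ R := by
    intro j
    rw [hmem, hmσ, pow_add p, pow_mul μ]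
    exact root_map hF hk (hall j)
  have hinj : ∀ i ∈ Finset.range (2 * n), ∀ j ∈ Finset.range (2 * n),
      μ ^ p ^ (a * i + k) = μ ^ p ^ (a * j + k) → i = j := by
    intro i hi j hj hij
    rw [Finset.mem_range] at hi hj
    have h1 := modEq_of_pow_eq (f := 1) (d := 2 * n) hr (by rw [mul_one]; exact hn) (by omega) hμr hij
    rw [mul_one] at h1
    have h2 : a * i ≡ a * j [MOD 2 * n] := Nat.ModEq.add_right_cancel' _ h1
    have h3 : i ≡ j [MOD 2 * n] := Nat.ModEq.cancel_left_of_coprime hcop h2
    have h8 : i % (2 * n) = j % (2 * n) := h3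
    rwa [Nat.mod_eq_of_lt hi, Nat.mod_eq_of_lt hj] at h8
  have h1n : (1 : AlgebraicClosure F) ∉ (Finset.range (2 * n)).image (fun j => μ ^ p ^ (a * j + k)) := by
    rw [Finset.mem_image]
    rintro ⟨j, -, hj⟩
    have h1 : r ∣ p ^ (a * j + k) := by
      rw [← hμr]
      exact orderOf_dvd_of_pow_eq_one hj
    have h2 : r = p := (Nat.prime_dvd_prime_iff_eq hr hp.out).1 (hr.dvd_of_dvd_pow h1)
    apply hrF
    rw [h2]
    exact CharP.cast_eq_zero F p
  have hsub : insert 1 ((Finset.range (2 * n)).image (fun j => μ ^ p ^ (a * j + k))) ⊆ R := by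
    intro x hx
    rw [Finset.mem_insert] at hx
    rcases hx with rfl | hx
    · exact h1R
    · rw [Finset.mem_image] at hx
      obtain ⟨j, -, rfl⟩ := hx
      exact hallR j
  have heq : insert 1 ((Finset.range (2 * n)).image (fun j => μ ^ p ^ (a * j + k))) = R := by
    apply Finset.eq_of_subset_of_card_le hsub
    rw [Finset.card_insert_of_notMem h1n, Finset.card_image_of_injOn (fun a ha b hb hab => hinj a ha b hb hab),
      Finset.card_range]
    exact hcardR
  -- `μ ^ c` is a root
  have hμc : μ ^ c ∈ R := by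
    rw [hmem]
    have h1 : aeval G (mσ.comp (X ^ c)) = 0 := by
      rw [Polynomial.aeval_comp, map_pow, aeval_X, hmσ, hσ]
    obtain ⟨T, hT⟩ := minpoly.dvd F G h1
    have h2 := congrArg (aeval μ) hT
    rw [map_mul, hμ, zero_mul, Polynomial.aeval_comp, map_pow, aeval_X] at h2
    exact h2
  rw [← heq, Finset.mem_insert, Finset.mem_image] at hμc
  rcases hμc with h1 | ⟨j, -, hj⟩
  · exfalso
    apply hc
    rw [← hμr]
    exact orderOf_dvd_of_pow_eq_one h1
  · have hμ0 : μ ≠ 0 := by
      rintro rfl
      have h1 := pow_orderOf_eq_one (0 : AlgebraicClosure F)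
      rw [hμr, zero_pow hr.ne_zero] at h1
      exact zero_ne_one h1
    have h1 : p ^ (a * j + k) ≡ c [MOD r] := by
      have h2 : (Units.mk0 μ hμ0) ^ p ^ (a * j + k) = (Units.mk0 μ hμ0) ^ c := by
        apply Units.ext
        rw [Units.val_pow_eq_pow_val, Units.val_pow_eq_pow_val, Units.val_mk0, hj]
      have h3 := pow_eq_pow_iff_modEq.1 h2
      rwa [← orderOf_units, Units.val_mk0, hμr] at h3
    have h2 := (ZMod.natCast_eq_natCast_iff _ _ _).2 (h1.pow (2 * n))
    apply (ZMod.natCast_eq_natCast_iff _ _ _).1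
    rw [← h2]
    push_cast
    rw [← pow_mul, mul_comm, pow_mul, ← hn, pow_orderOf_eq_one, one_pow]

end Main

end Cfsg.Agent.H481.OddAut
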